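import Groth.Prelude.Def_AgPol
import Groth.Prelude.Def_FlatMod2
import Groth.Agent.S14124
import Groth.Agent.S2385
import Groth.Agent.S7759
import Groth.Agent.Lib.BCCoh.FlatBC
import Groth.Agent.Lib.HilbDesc10.Local
import Groth.Agent.Lib.Ample.RelAmple
import Groth.Agent.Lib.Seesaw26.LocalGood
import Groth.Agent.Lib.FibReg5.Basic
import Groth.Agent.Lib.OX.SingleDegree
import Groth.Agent.Lib.OX.LocalTensor
import Groth.Agent.Lib.OX.Exact
import Groth.Agent.Lib.Euler.Basic

/-! Fibrewise vanishing of relatively ample modules on abelian schemes. -/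

set_option backward.isDefEq.respectTransparency false
set_option autoImplicit false

universe u

open CategoryTheory CategoryTheory.Limits MonoidalCategory CartesianMonoidalCategory MonObj GrpObj AlgebraicGeometry
open TensorProduct

noncomputable section

namespace GrothLib.AbVanish15

variable {S : Scheme.{u}}

/-- A point of `S` with values in an algebraically closed field factors through an affine open. -/
theorem isAffineHom_geometric_fibre {X : Scheme.{u}} (f : X ⟶ S) {V : S.Opens} (hV : IsAffineOpen V)
    {T : Scheme.{u}} [IsAffine T] (t : T ⟶ Spec Γ(S, V)) :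
    ∃ g : pullback f (t ≫ hV.fromSpec) ⟶ pullback f hV.fromSpec,
      IsAffineHom g ∧ g ≫ pullback.fst _ _ = pullback.fst _ _ := by
  have h : IsPullback (pullback.lift (pullback.fst f (t ≫ hV.fromSpec)) (pullback.snd f (t ≫ hV.fromSpec) ≫ t)
      (by rw [Category.assoc, pullback.condition]) : pullback f (t ≫ hV.fromSpec) ⟶ pullback f hV.fromSpec)
      (pullback.snd f (t ≫ hV.fromSpec)) (pullback.snd f hV.fromSpec) t := by
    refine IsPullback.of_right ?_ (pullback.lift_snd _ _ _) (IsPullback.of_hasPullback f hV.fromSpec)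
    rw [pullback.lift_fst]
    exact IsPullback.of_hasPullback f (t ≫ hV.fromSpec)
  exact ⟨_, MorphismProperty.of_isPullback (P := @IsAffineHom) h.flip inferInstance, pullback.lift_fst _ _ _⟩

/-- The restriction of a relatively ample module to a geometric fibre is ample. -/
theorem isAmple_geometric_fibre {X : Scheme.{u}} (f : X ⟶ S) [QuasiCompact f] {L : X.Modules}
    (hL : RelAmple.IsRelAmple f L) {V : S.Opens} (hV : IsAffineOpen V) {T : Scheme.{u}} [IsAffine T]
    (t : T ⟶ Spec Γ(S, V)) :
    CohB1.IsAmple ((Scheme.Modules.pullback (pullback.fst f (t ≫ hV.fromSpec))).obj L) := by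
  obtain ⟨g, hg, e⟩ := isAffineHom_geometric_fibre f hV t
  haveI := hg
  haveI : CompactSpace ↥(pullback f (t ≫ hV.fromSpec)) :=
    QuasiCompact.compactSpace_of_compactSpace (pullback.snd f (t ≫ hV.fromSpec))
  exact (GrothLib.Ample.isAmple_iff_of_iso ((Scheme.Modules.pullbackComp g (pullback.fst f hV.fromSpec)).app L ≪≫
      (Scheme.Modules.pullbackCongr e).app L)).1
    (GrothLib.Ample.isAmple_pullback_of_isAffineHom g (GrothLib.HilbDesc10.isAmple_pullback_fst f hL hV))

/-- The cohomology on an abelian variety over an arbitrary field of an ample module vanishes in positive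
degrees: geometric points reduce this to an algebraically closed field. -/
theorem subsingleton_fiberH (A : Over S) [GrpObj A] [Smooth A.hom] [IsProper A.hom] [GeometricallyConnected A.hom]
    {L : A.left.Modules} (hL : RelAmple.IsRelAmple A.hom L) (s : S) {j : ℕ} (hj : 0 < j) :
    Subsingleton (CohIII.fiberH A.hom L s j) := by
  let K : Type u := AlgebraicClosure (S.residueField s)
  let φ : S.residueField s →+* K := algebraMap _ _
  let c : Spec (CommRingCat.of K) ⟶ Spec (S.residueField s) := Spec.map (CommRingCat.ofHom φ)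
  obtain ⟨V, hV, hs, -⟩ := exists_isAffineOpen_mem_and_subset (x := s) (U := ⊤) trivial
  let t : Spec (CommRingCat.of K) ⟶ Spec Γ(S, V) :=
    c ≫ IsOpenImmersion.lift hV.fromSpec (S.fromSpecResidueField s)
      (by rw [Scheme.range_fromSpecResidueField, hV.range_fromSpec, Set.singleton_subset_iff]; exact hs)
  have ht : t ≫ hV.fromSpec = c ≫ S.fromSpecResidueField s := by
    simp [t, Category.assoc, IsOpenImmersion.lift_fac]
  let y : Spec (CommRingCat.of K) ⟶ S := t ≫ hV.fromSpec
  let A' : Over (Spec (CommRingCat.of K)) := (Over.pullback y).obj A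
  letI : GrpObj A' := inferInstanceAs (GrpObj ((Over.pullback y).obj A))
  haveI : IsProper A'.hom := inferInstanceAs (IsProper (pullback.snd A.hom y))
  haveI : Smooth A'.hom := inferInstanceAs (Smooth (pullback.snd A.hom y))
  haveI : GeometricallyConnected A'.hom := inferInstanceAs (GeometricallyConnected (pullback.snd A.hom y))
  have hv := (Groth.Agent.S14124.result K A' ((Scheme.Modules.pullback (pullback.fst A.hom y)).obj L)
    (isAmple_geometric_fibre A.hom hL hV t)).1 j hj
  let g : pullback A.hom y ⟶ A.hom.fiber s :=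
    pullback.lift (pullback.fst A.hom y) (pullback.snd A.hom y ≫ c)
      (by rw [Category.assoc, pullback.condition]; exact congrArg (_ ≫ ·) ht)
  have H : IsPullback g (pullback.snd A.hom y) (A.hom.fiberToSpecResidueField s) c := by
    refine IsPullback.of_right ?_ (pullback.lift_snd _ _ _)
      (IsPullback.of_hasPullback A.hom (S.fromSpecResidueField s))
    rw [pullback.lift_fst, ← ht]
    exact IsPullback.of_hasPullback A.hom y
  haveI : L.IsQuasicoherent := InvExt.isQuasicoherent_of_isInvertible (GrothLib.Ample.isInvertible_of_isRelAmple hL)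
  haveI : (CohIII.fiberMod A.hom L s).IsQuasicoherent := FittSheaf.isQuasicoherent_pullback _ L
  haveI : IsProper (A.hom.fiberToSpecResidueField s) :=
    inferInstanceAs (IsProper (pullback.snd A.hom (S.fromSpecResidueField s)))
  haveI : CompactSpace ↥(A.hom.fiber s) :=
    QuasiCompact.compactSpace_of_compactSpace (A.hom.fiberToSpecResidueField s)
  haveI : (A.hom.fiber s).IsSeparated := ⟨by
    rw [show terminal.from (A.hom.fiber s) = A.hom.fiberToSpecResidueField s ≫ terminal.from _ from
      terminal.hom_ext _ _]
    infer_instance⟩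
  letI := φ.toAlgebra
  letI := GrothLib.BCCoh.modHH (A.hom.fiberToSpecResidueField s) (CohIII.fiberMod A.hom L s) j
  letI := GrothLib.BCCoh.modHH (pullback.snd A.hom y)
    ((Scheme.Modules.pullback g).obj (CohIII.fiberMod A.hom L s)) j
  have hflat : φ.Flat := by
    show Module.Flat (S.residueField s) K
    infer_instance
  obtain ⟨e⟩ := GrothLib.BCCoh.exists_flatBC φ hflat (A.hom.fiberToSpecResidueField s) (pullback.snd A.hom y) g H
    (CohIII.fiberMod A.hom L s) j
  let i : (Scheme.Modules.pullback (pullback.fst A.hom y)).obj L ≅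
      (Scheme.Modules.pullback g).obj (CohIII.fiberMod A.hom L s) :=
    ((Scheme.Modules.pullbackComp g (A.hom.fiberι s)).app L ≪≫
      (Scheme.Modules.pullbackCongr (pullback.lift_fst _ _ _)).app L).symm
  haveI : Subsingleton (Coh.HH (pullback A.hom y) ((Scheme.Modules.pullback g).obj (CohIII.fiberMod A.hom L s)) j) :=
    letI : (pullback A.hom y).Over (Spec (CommRingCat.of K)) := ⟨pullback.snd A.hom y⟩
    haveI : Subsingleton (Coh.HH (pullback A.hom y) ((Scheme.Modules.pullback (pullback.fst A.hom y)).obj L) j) := hv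
    (GrothLib.Euler.hhEquiv (A := K) i j).toEquiv.symm.subsingleton
  haveI := e.toEquiv.subsingleton
  exact Module.FaithfullyFlat.lTensor_reflects_triviality (S.residueField s) K _

/-- Being zero is local. -/
theorem isZero_of_local {M : S.Modules} (h : ∀ s : S, ∃ U : S.Opens, s ∈ U ∧ IsZero (M.restrict U.ι)) : IsZero M := by
  refine (GrothLib.OX.isZero_iff M).2 fun s => ?_
  obtain ⟨U, hs, hU⟩ := h s
  rw [IsZero.iff_id_eq_zero, ← CategoryTheory.Functor.map_id]
  exact GrothLib.OX.stalk_map_zero_of_restrictZero U.ι (𝟙 M) ⟨s, hs⟩ (hU.eq_of_src _ _)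

/-- An ample module on an abelian scheme has no higher direct images, and a finite locally free direct image. -/
theorem rpush_zero_push_finLocFree [IsLocallyNoetherian S] (A : Over S) [GrpObj A] [Smooth A.hom] [IsProper A.hom]
    [GeometricallyConnected A.hom] [HasInjectiveResolutions A.left.Modules]
    {L : A.left.Modules} (hL : RelAmple.IsRelAmple A.hom L) :
    (∀ i : ℕ, 1 ≤ i → IsZero ((Coh.Rpush A.hom i).obj L)) ∧
      FlatMod.IsFinLocFree ((Coh.push A.hom).obj L) := by
  have hi := GrothLib.Ample.isInvertible_of_isRelAmple hL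
  have hc := GrothLib.Euler.isCoh_of_isInvertible hi
  have hfl := GrothLib.Seesaw26.isFlatOver_of_isInvertible A.hom hi
  haveI : IsLocallyNoetherian A.left := LocallyOfFiniteType.isLocallyNoetherian A.hom
  refine ⟨fun i h1 => isZero_of_local fun s =>
      Groth.Agent.S2385.result A.hom L hc hfl s i (subsingleton_fiberH A hL s (by omega)), ?_⟩
  refine GrothLib.OX.isFinLocFree_of_local fun s => ?_
  obtain ⟨U, hs, -, hU⟩ := Groth.Agent.S7759.result A.hom L (GrothLib.FibReg5.isFP_of_isCoh hc) hfl s
    (subsingleton_fiberH A hL s one_pos)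
  exact ⟨U, U.ι, inferInstance, ⟨⟨s, hs⟩, rfl⟩, hU⟩

end GrothLib.AbVanish15
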