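import Groth.Agent.Lib.AbVanish15.Basic
import Groth.Agent.Lib.Poincare.DualBC
import Groth.Agent.Lib.Poincare.KL
import Groth.Agent.Lib.Cube.Nondegenerate
import Groth.Agent.Lib.CubeRel26.AbScheme
import Groth.Prelude.Def_ThetaK

/-! `K(L)` of a relatively ample module on an abelian scheme is finite. -/

set_option backward.isDefEq.respectTransparency false
set_option autoImplicit false

universe u

open CategoryTheory CategoryTheory.Limits MonoidalCategory CartesianMonoidalCategory AlgebraicGeometry TopologicalSpace
open GrothLib.Cube GrothLib.Ample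
open scoped MonObj

noncomputable section

namespace GrothLib.AbVanish15

variable {S : Scheme.{u}} {A : Over S} [GrpObj A] [IsProper A.hom] [Smooth A.hom] [GeometricallyConnected A.hom]
  {Ω : Type u} [Field Ω] [IsAlgClosed Ω] (t : Spec (CommRingCat.of Ω) ⟶ S)

/-- A point along which the Mumford class is trivial translates the fibre class into itself. -/
theorem pull_transl_eq {L : A.left.Modules} {x : Pic A.left} (hx : HasCls L x)
    (z : DualBC.res t (𝟙_ (Over (Spec (CommRingCat.of Ω)))) ⟶ A) (hz : ThetaGrp.IsMumfordTriv A L z) :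
    letI : GrpObj (DualBC.bcObj t A) := Functor.grpObjObj
    pull (transl (DualBC.up z)).left (pull (pullback.fst A.hom t) x) = pull (pullback.fst A.hom t) x := by
  letI : GrpObj (DualBC.bcObj t A) := Functor.grpObjObj
  obtain ⟨M, hM, he⟩ := hz
  let T : Over S := DualBC.res t (𝟙_ (Over (Spec (CommRingCat.of Ω))))
  let A' : Over (Spec (CommRingCat.of Ω)) := DualBC.bcObj t A
  let p : DualBC.res t A' ⟶ A := DualBC.down (𝟙 A')
  let q : DualBC.res t A' ⟶ T := DualBC.resMap t (toUnit A')
  let θ : DualBC.res t A' ⟶ A ⊗ T := lift p q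
  have hm : ((A ◁ z) ≫ μ[A]).left = (fst A T * (snd A T ≫ z)).left := by
    congr 1
  have h := (((hasCls_clsMod hM).pullback (snd A T).left).tensor (hx.pullback (fst A T).left)).tensor
    (hx.pullback (snd A T ≫ z).left) |>.eq (hx.pullback ((A ◁ z) ≫ μ[A]).left) he
  rw [hm] at h
  have h2 := congrArg (pull θ.left) h
  rw [map_mul, map_mul, GrothLib.CubeRel26.pull_pull_over, GrothLib.CubeRel26.pull_pull_over, GrothLib.CubeRel26.pull_pull_over, GrothLib.CubeRel26.pull_pull_over, MonObj.comp_mul,
    lift_fst, lift_snd, lift_snd_assoc] at h2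
  haveI : Subsingleton (Pic T.left) := ⟨fun a b => (pic_spec_field_eq_one (F := Ω) a).trans (pic_spec_field_eq_one (F := Ω) b).symm⟩
  have e1 : pull q.left (clsMod hM) = 1 := by rw [Subsingleton.elim (clsMod hM) 1, map_one]
  have e2 : pull (q ≫ z).left x = 1 := by
    rw [← GrothLib.CubeRel26.pull_pull_over, Subsingleton.elim (pull z.left x) 1, map_one]
  rw [e1, e2, _root_.one_mul, _root_.mul_one] at h2
  have e3 : p.left = pullback.fst A.hom t := Category.id_comp _
  rw [e3] at h2
  have e4 : (transl (DualBC.up z)).left ≫ pullback.fst A.hom t = (p * (q ≫ z)).left := by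
    have : transl (DualBC.up z) = DualBC.up (p * (q ≫ z)) := by
      rw [DualBC.up_mul, DualBC.up_down, DualBC.up_comp]
    rw [this]
    exact congrArg CategoryTheory.Over.Hom.left (DualBC.down_up (b := t) (p * (q ≫ z)))
  refine (GrothLib.Cube.pull_comp _ _ x).trans ?_
  rw [e4]
  exact h2.symm

/-- Finitely many geometric points of `K(L)` lie over a given geometric point of the base. -/
theorem finite_points {L : A.left.Modules} (hL : RelAmple.IsRelAmple A.hom L) {K : Over S} {i : K ⟶ A}
    (hK : ThetaGrp.IsKL A L i) {V : S.Opens} (hV : IsAffineOpen V)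
    (c : Spec (CommRingCat.of Ω) ⟶ Spec Γ(S, V)) (hc : c ≫ hV.fromSpec = t) :
    Finite (DualBC.res t (𝟙_ (Over (Spec (CommRingCat.of Ω)))) ⟶ K) := by
  let A' : Over (Spec (CommRingCat.of Ω)) := DualBC.bcObj t A
  letI : GrpObj A' := Functor.grpObjObj
  haveI : IsProper A'.hom := inferInstanceAs (IsProper (pullback.snd A.hom t))
  haveI : Smooth A'.hom := inferInstanceAs (Smooth (pullback.snd A.hom t))
  haveI : GeometricallyConnected A'.hom := inferInstanceAs (GeometricallyConnected (pullback.snd A.hom t))
  haveI : GeometricallyIntegral A'.hom := GrothLib.Dual.geometricallyIntegral_of_abScheme A'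
  have hi := GrothLib.Ample.isInvertible_of_isRelAmple hL
  have hx := hasCls_clsMod hi
  have ha : CohB1.IsAmple ((Scheme.Modules.pullback (pullback.fst A.hom t)).obj L) := by
    subst hc
    exact isAmple_geometric_fibre A.hom hL hV c
  let x' : Pic A'.left := pull (pullback.fst A.hom t) (clsMod hi)
  have hx' : HasCls ((Scheme.Modules.pullback (pullback.fst A.hom t)).obj L) x' := hx.pullback _
  have hfin : (stab x' : Set (𝟙_ (Over (Spec (CommRingCat.of Ω))) ⟶ A')).Finite := by
    refine finite_stab x' fun q => ?_
    have e : clsMod ha.1 = x' := (hasCls_clsMod ha.1).eq hx' ⟨Iso.refl _⟩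
    rw [← e]
    exact exists_hasSec_of_isAmple ha q
  haveI := hK.closed
  haveI : Mono i := Over.mono_of_mono_left i
  haveI := hfin.to_subtype
  refine Finite.of_injective (fun y => (⟨DualBC.up (b := t) (y ≫ i), pull_transl_eq t hx (y ≫ i)
    ((hK.univ _ (y ≫ i)).2 ⟨y, rfl⟩)⟩ : (stab x' : Set (𝟙_ (Over (Spec (CommRingCat.of Ω))) ⟶ A')))) fun y y' h => ?_
  have h1 := congrArg (DualBC.down (b := t)) (congrArg Subtype.val h)
  simp only [DualBC.down_up] at h1
  exact (cancel_mono i).1 h1

/-- A scheme locally of finite type over an algebraically closed field with finitely many points is finite. -/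
theorem finite_of_finite_sections {X : Scheme.{u}} (f : X ⟶ Spec (CommRingCat.of Ω)) [LocallyOfFiniteType f]
    [Finite {σ : Spec (CommRingCat.of Ω) ⟶ X // σ ≫ f = 𝟙 _}] : Finite X := by
  haveI : JacobsonSpace X := LocallyOfFiniteType.jacobsonSpace f
  haveI : Finite (closedPoints X) := Finite.of_equiv _ (pointEquivClosedPoint f)
  have h : closedPoints X = Set.univ := by
    have h1 : IsClosed (closedPoints X) := by
      rw [← Set.biUnion_of_singleton (closedPoints X)]
      exact Set.Finite.isClosed_biUnion (Set.toFinite _) fun z hz => hz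
    rw [← h1.closure_eq]
    exact closure_closedPoints
  rw [← Set.finite_univ_iff, ← h]
  exact Set.toFinite _

/-- **`K(L)` of a relatively ample module on an abelian scheme is finite.** -/
theorem isFinite_KL {L : A.left.Modules} (hL : RelAmple.IsRelAmple A.hom L) {K : Over S} {i : K ⟶ A}
    (hK : ThetaGrp.IsKL A L i) : IsFinite K.hom := by
  haveI := hK.closed
  haveI : IsProper K.hom := by rw [← Over.w i]; infer_instance
  haveI : LocallyQuasiFinite K.hom := .of_finite_preimage_singleton K.hom fun s => by
    let Ω : Type u := AlgebraicClosure (S.residueField s)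
    let gm : Spec (CommRingCat.of Ω) ⟶ Spec (S.residueField s) :=
      Spec.map (CommRingCat.ofHom (algebraMap (S.residueField s) Ω))
    obtain ⟨V, hV, hs, -⟩ := exists_isAffineOpen_mem_and_subset (x := s) (U := ⊤) trivial
    let c : Spec (CommRingCat.of Ω) ⟶ Spec Γ(S, V) :=
      gm ≫ IsOpenImmersion.lift hV.fromSpec (S.fromSpecResidueField s)
        (by rw [Scheme.range_fromSpecResidueField, hV.range_fromSpec, Set.singleton_subset_iff]; exact hs)
    let t : Spec (CommRingCat.of Ω) ⟶ S := c ≫ hV.fromSpec
    haveI := finite_points (A := A) t hL hK hV c rfl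
    haveI : Finite {σ : Spec (CommRingCat.of Ω) ⟶ pullback K.hom t // σ ≫ pullback.snd K.hom t = 𝟙 _} := by
      refine Finite.of_injective (fun σ => DualBC.down (b := t)
        (Over.homMk σ.1 σ.2 : 𝟙_ (Over (Spec (CommRingCat.of Ω))) ⟶ DualBC.bcObj t K)) fun σ τ h => ?_
      have h1 := congrArg (DualBC.up (b := t)) h
      simp only [DualBC.up_down] at h1
      exact Subtype.ext (congrArg CategoryTheory.Over.Hom.left h1)
    haveI : Finite ↥(pullback K.hom t) := finite_of_finite_sections (pullback.snd K.hom t)
    have ht : t = gm ≫ S.fromSpecResidueField s := by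
      simp [t, c, Category.assoc, IsOpenImmersion.lift_fac]
    refine (Set.finite_range (pullback.fst K.hom t)).subset fun y hy => ?_
    rw [Scheme.Pullback.range_fst]
    refine ⟨IsLocalRing.closedPoint Ω, ?_⟩
    rw [ht, Scheme.Hom.comp_apply, Scheme.fromSpecResidueField_apply]
    exact (Set.mem_singleton_iff.1 hy).symm
  exact IsFinite.of_isProper_of_locallyQuasiFinite K.hom

end GrothLib.AbVanish15
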